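import Cfsg.Agent.NotCT.Two

/-!
# Odd characteristic: orders (helper77)

* `typ_mem_odd` : if `|X| = |s(r ^ j)| = n0`, `r` odd, then `(r, s, j)` is in an explicit list (kernel check);
* `no_ltwo_odd` : `|s(r ^ j)| ≠ |L_2(q)|` for `s ≠ L_2, ²G_2`, `r`, `q` odd;
* `odd_m11`, ..., `odd_m`, `odd_tits`, `odd_alt7`, ... : the sporadic groups, the Tits group, small alternating groups.
-/

set_option autoImplicit false

namespace Cfsg.Agent.NotCT

open Cfsg

/-- the primes up to 71 -/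
def primes71 : List ℕ := [2, 3, 5, 7, 11, 13, 17, 19, 23, 29, 31, 37, 41, 43, 47, 53, 59, 61, 67, 71]

theorem prime_of_mem {p : ℕ} (h : p ∈ primes71) : p.Prime := by
  simp only [primes71, List.mem_cons, List.not_mem_nil, or_false] at h
  rcases h with rfl | rfl | rfl | rfl | rfl | rfl | rfl | rfl | rfl | rfl | rfl | rfl | rfl | rfl | rfl | rfl |
    rfl | rfl | rfl | rfl <;> norm_num

/-- `L` is the factorization of `n0` -/
def facOK (n0 : ℕ) (L : List (ℕ × ℕ)) : Bool :=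
  L.all (fun x => primes71.contains x.1 && (n0 % x.1 ^ (x.2 + 1) != 0)) && (n0 == (L.map fun x => x.1 ^ x.2).prod)

/-- the order check for all odd primes -/
def chkOdd (n0 : ℕ) (L : List (ℕ × ℕ)) (ex : List (ℕ × Typ × ℕ)) : Bool :=
  facOK n0 L && L.all fun x => x.1 == 2 || chk n0 x.1 x.2 ((ex.filter fun y => y.1 == x.1).map Prod.snd)

section

variable {X : Type*} {s : Typ} {r j : ℕ}

theorem rpow_ne_one (hr : r.Prime) (hv : s.Valid r j) (h : HasOrd s (r ^ j) X) : r ∣ Nat.card X :=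
  (dvd_pow_self r (Nat.mul_pos (one_le_k hv) (N_pos hv)).ne').trans (dvd_card hr hv h)

/-- **The types of a group of odd characteristic of order `n0`.** -/
theorem typ_mem_odd (hr : r.Prime) (hr2 : r ≠ 2) (hv : s.Valid r j) (h : HasOrd s (r ^ j) X) {n0 : ℕ}
    (hc : Nat.card X = n0) (L : List (ℕ × ℕ)) (ex : List (ℕ × Typ × ℕ)) (hchk : chkOdd n0 L ex = true) :
    (r, s, j) ∈ ex := by
  unfold chkOdd facOK at hchk
  simp only [Bool.and_eq_true, List.all_eq_true, Bool.or_eq_true, beq_iff_eq, bne_iff_ne, ne_eq,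
    List.contains_iff_mem] at hchk
  obtain ⟨⟨h1, h2⟩, h3⟩ := hchk
  have h4 := rpow_ne_one hr hv h
  rw [hc, h2] at h4
  obtain ⟨y, hy, hry⟩ := (hr.prime.dvd_prod_iff).1 h4
  obtain ⟨x, hx, rfl⟩ := List.mem_map.1 hy
  have h5 := hr.dvd_of_dvd_pow hry
  have hxp := prime_of_mem (h1 x hx).1
  have h6 : r = x.1 := (Nat.prime_dvd_prime_iff_eq hr hxp).1 h5
  have h7 : r ^ x.2 ∣ n0 := by
    rw [h2, h6]
    exact List.dvd_prod (List.mem_map_of_mem hx)
  have h8 : ¬ r ^ (x.2 + 1) ∣ n0 := by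
    rw [h6]
    exact fun h => (h1 x hx).2 (Nat.mod_eq_zero_of_dvd h)
  rcases h3 x hx with h9 | h9
  · exact absurd (h6.trans h9) hr2
  · rw [← h6] at h9
    have h10 := typ_mem hr hv h hc h7 h8 h9
    obtain ⟨y, hy, hy2⟩ := List.mem_map.1 h10
    rw [List.mem_filter] at hy
    have h11 : y.1 = r := by simpa using hy.2
    have h12 : y = (r, s, j) := Prod.ext h11 hy2
    exact h12 ▸ hy.1

theorem no_card_odd (hr : r.Prime) (hr2 : r ≠ 2) (hv : s.Valid r j) (h : HasOrd s (r ^ j) X) {n0 : ℕ}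
    (hc : Nat.card X = n0) (L : List (ℕ × ℕ)) (hchk : chkOdd n0 L [] = true) : False := by
  have := typ_mem_odd hr hr2 hv h hc L [] hchk
  simp at this

theorem three_le_N (hr2 : r ≠ 2) (hv : s.Valid r j) (h2 : s ≠ .L 2) : 3 ≤ s.N := by
  have tri : ∀ {n : ℕ}, 3 ≤ n → 3 ≤ n * (n - 1) / 2 := fun {n} hn => by
    have : 3 * 2 ≤ n * (n - 1) := Nat.mul_le_mul hn (by omega)
    omega
  cases s with
  | L n =>
    refine tri ?_
    have h6 := hv.2.1
    by_contra h5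
    have h7 : n = 2 := by omega
    exact h2 (by rw [h7])
  | S n =>
    have := hv.2.1
    simp only [Typ.N]
    nlinarith
  | U n => exact tri hv.2.1
  | OO n =>
    have := hv.2.1
    simp only [Typ.N]
    nlinarith
  | OP n =>
    have := hv.2
    have h1 : 4 * 3 ≤ n * (n - 1) := Nat.mul_le_mul this (by omega)
    simp only [Typ.N]
    omega
  | OM n =>
    have := hv.2
    have h1 : 4 * 3 ≤ n * (n - 1) := Nat.mul_le_mul this (by omega)
    simp only [Typ.N]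
    omega
  | SZ => exact absurd hv.1 hr2
  | TF4 => exact absurd hv.1 hr2
  | _ => simp [Typ.N]

theorem pow_le_of_dvd {q a : ℕ} (hr : r.Prime) (hr2 : r ≠ 2) (hq : 3 ≤ q) (h : r ^ a ∣ q * (q ^ 2 - 1)) :
    r ^ a ≤ q + 1 := by
  obtain ⟨c, rfl⟩ := Nat.exists_eq_add_of_le' (show 1 ≤ q by omega)
  have h1 : (c + 1) ^ 2 - 1 = c * (c + 2) := by
    have : (c + 1) ^ 2 = c * (c + 2) + 1 := by ring
    omega
  rw [h1] at h
  have cop : ∀ {x : ℕ}, ¬ r ∣ x → Nat.Coprime (r ^ a) x := fun hx =>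
    Nat.Coprime.pow_left _ ((Nat.Prime.coprime_iff_not_dvd hr).2 hx)
  have h2 : ¬ r ∣ 2 := fun h => hr2 ((Nat.prime_dvd_prime_iff_eq hr Nat.prime_two).1 h)
  by_cases ha : r ∣ c + 1
  · have hc : ¬ r ∣ c := fun h => by
      have := (Nat.dvd_add_right h).1 ha
      exact hr.one_lt.ne' (Nat.dvd_one.1 this)
    have hc2 : ¬ r ∣ c + 2 := fun h => by
      have h3 : r ∣ (c + 1) + 1 := h
      have := (Nat.dvd_add_right ha).1 h3
      exact hr.one_lt.ne' (Nat.dvd_one.1 this)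
    have h3 := (cop hc).dvd_of_dvd_mul_left ((Nat.Coprime.mul_right (cop hc) (cop hc2)).dvd_of_dvd_mul_right h |>.trans (Dvd.intro_left c rfl))
    exact (Nat.le_of_dvd (by omega) ((Nat.Coprime.mul_right (cop hc) (cop hc2)).dvd_of_dvd_mul_right h)).trans (Nat.le_succ _)
  · have h3 := (cop ha).dvd_of_dvd_mul_left h
    by_cases hc : r ∣ c
    · have hc2 : ¬ r ∣ c + 2 := fun h => h2 ((Nat.dvd_add_right hc).1 h)
      have h4 := (cop hc2).dvd_of_dvd_mul_right h3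
      exact (Nat.le_of_dvd (by omega) h4).trans (by omega)
    · have h4 := (cop hc).dvd_of_dvd_mul_left h3
      exact Nat.le_of_dvd (by omega) h4

/-- **`|s(r ^ j)| ≠ |L_2(q)|`**, `s ≠ L_2, ²G_2`, `r`, `q` odd. -/
theorem no_ltwo_odd (hr : r.Prime) (hr2 : r ≠ 2) (hv : s.Valid r j) (h : HasOrd s (r ^ j) X) (h2 : s ≠ .L 2)
    (h3 : s ≠ .RG) {q : ℕ} (hq : Odd q) (hc : 2 * Nat.card X = q * (q ^ 2 - 1)) : False := by
  have hN := three_le_N hr2 hv h2
  have hj := one_le_k hv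
  have h0 := card_ne_zero hr hv h
  have hq3 : 3 ≤ q := by
    rcases hq with ⟨c, rfl⟩
    rcases Nat.eq_zero_or_pos c with rfl | hc0
    · simp at hc
      omega
    · omega
  have h4 := card_le_eight hr hv h h2 h3
  have h5 : 27 ≤ r ^ (j * s.N) := by
    have h6 : 3 ≤ r := by
      have := hr.two_le
      omega
    calc 27 = 3 ^ 3 := by norm_num
      _ ≤ r ^ 3 := Nat.pow_le_pow_left h6 3
      _ ≤ _ := Nat.pow_le_pow_right hr.pos (by nlinarith)
  have h6 : r ^ (j * s.N) ≤ q + 1 := pow_le_of_dvd hr hr2 hq3 (hc ▸ (dvd_card hr hv h).mul_left 2)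
  generalize r ^ (j * s.N) = R at h4 h5 h6
  obtain ⟨c, rfl⟩ := Nat.exists_eq_add_of_le' h5
  have h7 : (c + 26) * ((c + 27) * (c + 25)) ≤ 2 * Nat.card X := by
    rw [hc]
    obtain ⟨d, rfl⟩ := Nat.exists_eq_add_of_le' (show c + 26 ≤ q by omega)
    have h8 : (d + (c + 26)) ^ 2 - 1 = (d + (c + 27)) * (d + (c + 25)) := by
      have : (d + (c + 26)) ^ 2 = (d + (c + 27)) * (d + (c + 25)) + 1 := by ring
      omega
    rw [h8]
    exact Nat.mul_le_mul (Nat.le_add_left _ _) (Nat.mul_le_mul (Nat.le_add_left _ _) (Nat.le_add_left _ _))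
  have h8 : 8 * (c + 27) ^ 2 ≤ 10 * ((c + 26) * (c + 25)) := by
    have : 10 * ((c + 26) * (c + 25)) = 8 * (c + 27) ^ 2 + (2 * c ^ 2 + 78 * c + 668) := by ring
    omega
  have h9 : (8 * (c + 27) ^ 2) ^ 3 * (c + 27) ^ 3 ≤ 1000 * (8 * (c + 27) ^ 8) := by
    calc (8 * (c + 27) ^ 2) ^ 3 * (c + 27) ^ 3 ≤ (10 * ((c + 26) * (c + 25))) ^ 3 * (c + 27) ^ 3 :=
          Nat.mul_le_mul_right _ (Nat.pow_le_pow_left h8 3)
      _ = 1000 * ((c + 26) * ((c + 27) * (c + 25))) ^ 3 := by ring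
      _ ≤ 1000 * (2 * Nat.card X) ^ 3 := Nat.mul_le_mul_left _ (Nat.pow_le_pow_left h7 3)
      _ = 1000 * (8 * Nat.card X ^ 3) := by ring
      _ ≤ _ := Nat.mul_le_mul_left _ (Nat.mul_le_mul_left _ h4)
  have h10 : (512 * (c + 27)) * (c + 27) ^ 8 ≤ 8000 * (c + 27) ^ 8 := by
    calc (512 * (c + 27)) * (c + 27) ^ 8 = (8 * (c + 27) ^ 2) ^ 3 * (c + 27) ^ 3 := by ring
      _ ≤ _ := h9
      _ = _ := by ring
  have h11 := Nat.le_of_mul_le_mul_right h10 (pow_pos (by omega) 8)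
  omega

theorem odd_m11 (hr : r.Prime) (hr2 : r ≠ 2) (hv : s.Valid r j) (h : HasOrd s (r ^ j) X)
    (h' : Nat.card X = 7920) : False :=
  no_card_odd hr hr2 hv h h' [(2, 4), (3, 2), (5, 1), (11, 1)] (by decide +kernel)

theorem odd_m12 (hr : r.Prime) (hr2 : r ≠ 2) (hv : s.Valid r j) (h : HasOrd s (r ^ j) X)
    (h' : Nat.card X = 95040) : False :=
  no_card_odd hr hr2 hv h h' [(2, 6), (3, 3), (5, 1), (11, 1)] (by decide +kernel)

theorem odd_m22 (hr : r.Prime) (hr2 : r ≠ 2) (hv : s.Valid r j) (h : HasOrd s (r ^ j) X)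
    (h' : Nat.card X = 443520) : False :=
  no_card_odd hr hr2 hv h h' [(2, 7), (3, 2), (5, 1), (7, 1), (11, 1)] (by decide +kernel)

theorem odd_m23 (hr : r.Prime) (hr2 : r ≠ 2) (hv : s.Valid r j) (h : HasOrd s (r ^ j) X)
    (h' : Nat.card X = 10200960) : False :=
  no_card_odd hr hr2 hv h h' [(2, 7), (3, 2), (5, 1), (7, 1), (11, 1), (23, 1)] (by decide +kernel)

theorem odd_m24 (hr : r.Prime) (hr2 : r ≠ 2) (hv : s.Valid r j) (h : HasOrd s (r ^ j) X)
    (h' : Nat.card X = 244823040) : False :=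
  no_card_odd hr hr2 hv h h' [(2, 10), (3, 3), (5, 1), (7, 1), (11, 1), (23, 1)] (by decide +kernel)

theorem odd_j1 (hr : r.Prime) (hr2 : r ≠ 2) (hv : s.Valid r j) (h : HasOrd s (r ^ j) X)
    (h' : Nat.card X = 175560) : False :=
  no_card_odd hr hr2 hv h h' [(2, 3), (3, 1), (5, 1), (7, 1), (11, 1), (19, 1)] (by decide +kernel)

theorem odd_j2 (hr : r.Prime) (hr2 : r ≠ 2) (hv : s.Valid r j) (h : HasOrd s (r ^ j) X)
    (h' : Nat.card X = 604800) : False :=
  no_card_odd hr hr2 hv h h' [(2, 7), (3, 3), (5, 2), (7, 1)] (by decide +kernel)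

theorem odd_j3 (hr : r.Prime) (hr2 : r ≠ 2) (hv : s.Valid r j) (h : HasOrd s (r ^ j) X)
    (h' : Nat.card X = 50232960) : False :=
  no_card_odd hr hr2 hv h h' [(2, 7), (3, 5), (5, 1), (17, 1), (19, 1)] (by decide +kernel)

theorem odd_j4 (hr : r.Prime) (hr2 : r ≠ 2) (hv : s.Valid r j) (h : HasOrd s (r ^ j) X)
    (h' : Nat.card X = 86775571046077562880) : False :=
  no_card_odd hr hr2 hv h h' [(2, 21), (3, 3), (5, 1), (7, 1), (11, 3), (23, 1), (29, 1), (31, 1), (37, 1), (43, 1)] (by decide +kernel)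

theorem odd_co1 (hr : r.Prime) (hr2 : r ≠ 2) (hv : s.Valid r j) (h : HasOrd s (r ^ j) X)
    (h' : Nat.card X = 4157776806543360000) : False :=
  no_card_odd hr hr2 hv h h' [(2, 21), (3, 9), (5, 4), (7, 2), (11, 1), (13, 1), (23, 1)] (by decide +kernel)

theorem odd_co2 (hr : r.Prime) (hr2 : r ≠ 2) (hv : s.Valid r j) (h : HasOrd s (r ^ j) X)
    (h' : Nat.card X = 42305421312000) : False :=
  no_card_odd hr hr2 hv h h' [(2, 18), (3, 6), (5, 3), (7, 1), (11, 1), (23, 1)] (by decide +kernel)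

theorem odd_co3 (hr : r.Prime) (hr2 : r ≠ 2) (hv : s.Valid r j) (h : HasOrd s (r ^ j) X)
    (h' : Nat.card X = 495766656000) : False :=
  no_card_odd hr hr2 hv h h' [(2, 10), (3, 7), (5, 3), (7, 1), (11, 1), (23, 1)] (by decide +kernel)

theorem odd_mcl (hr : r.Prime) (hr2 : r ≠ 2) (hv : s.Valid r j) (h : HasOrd s (r ^ j) X)
    (h' : Nat.card X = 898128000) : False :=
  no_card_odd hr hr2 hv h h' [(2, 7), (3, 6), (5, 3), (7, 1), (11, 1)] (by decide +kernel)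

theorem odd_hs (hr : r.Prime) (hr2 : r ≠ 2) (hv : s.Valid r j) (h : HasOrd s (r ^ j) X)
    (h' : Nat.card X = 44352000) : False :=
  no_card_odd hr hr2 hv h h' [(2, 9), (3, 2), (5, 3), (7, 1), (11, 1)] (by decide +kernel)

theorem odd_suz (hr : r.Prime) (hr2 : r ≠ 2) (hv : s.Valid r j) (h : HasOrd s (r ^ j) X)
    (h' : Nat.card X = 448345497600) : False :=
  no_card_odd hr hr2 hv h h' [(2, 13), (3, 7), (5, 2), (7, 1), (11, 1), (13, 1)] (by decide +kernel)

theorem odd_he (hr : r.Prime) (hr2 : r ≠ 2) (hv : s.Valid r j) (h : HasOrd s (r ^ j) X)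
    (h' : Nat.card X = 4030387200) : False :=
  no_card_odd hr hr2 hv h h' [(2, 10), (3, 3), (5, 2), (7, 3), (17, 1)] (by decide +kernel)

theorem odd_ru (hr : r.Prime) (hr2 : r ≠ 2) (hv : s.Valid r j) (h : HasOrd s (r ^ j) X)
    (h' : Nat.card X = 145926144000) : False :=
  no_card_odd hr hr2 hv h h' [(2, 14), (3, 3), (5, 3), (7, 1), (13, 1), (29, 1)] (by decide +kernel)

theorem odd_on (hr : r.Prime) (hr2 : r ≠ 2) (hv : s.Valid r j) (h : HasOrd s (r ^ j) X)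
    (h' : Nat.card X = 460815505920) : False :=
  no_card_odd hr hr2 hv h h' [(2, 9), (3, 4), (5, 1), (7, 3), (11, 1), (19, 1), (31, 1)] (by decide +kernel)

theorem odd_ly (hr : r.Prime) (hr2 : r ≠ 2) (hv : s.Valid r j) (h : HasOrd s (r ^ j) X)
    (h' : Nat.card X = 51765179004000000) : False :=
  no_card_odd hr hr2 hv h h' [(2, 8), (3, 7), (5, 6), (7, 1), (11, 1), (31, 1), (37, 1), (67, 1)] (by decide +kernel)

theorem odd_fi22 (hr : r.Prime) (hr2 : r ≠ 2) (hv : s.Valid r j) (h : HasOrd s (r ^ j) X)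
    (h' : Nat.card X = 64561751654400) : False :=
  no_card_odd hr hr2 hv h h' [(2, 17), (3, 9), (5, 2), (7, 1), (11, 1), (13, 1)] (by decide +kernel)

theorem odd_fi23 (hr : r.Prime) (hr2 : r ≠ 2) (hv : s.Valid r j) (h : HasOrd s (r ^ j) X)
    (h' : Nat.card X = 4089470473293004800) : False :=
  no_card_odd hr hr2 hv h h' [(2, 18), (3, 13), (5, 2), (7, 1), (11, 1), (13, 1), (17, 1), (23, 1)] (by decide +kernel)

theorem odd_fi24 (hr : r.Prime) (hr2 : r ≠ 2) (hv : s.Valid r j) (h : HasOrd s (r ^ j) X)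
    (h' : Nat.card X = 1255205709190661721292800) : False :=
  no_card_odd hr hr2 hv h h' [(2, 21), (3, 16), (5, 2), (7, 3), (11, 1), (13, 1), (17, 1), (23, 1), (29, 1)] (by decide +kernel)

theorem odd_hn (hr : r.Prime) (hr2 : r ≠ 2) (hv : s.Valid r j) (h : HasOrd s (r ^ j) X)
    (h' : Nat.card X = 273030912000000) : False :=
  no_card_odd hr hr2 hv h h' [(2, 14), (3, 6), (5, 6), (7, 1), (11, 1), (19, 1)] (by decide +kernel)

theorem odd_th (hr : r.Prime) (hr2 : r ≠ 2) (hv : s.Valid r j) (h : HasOrd s (r ^ j) X)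
    (h' : Nat.card X = 90745943887872000) : False :=
  no_card_odd hr hr2 hv h h' [(2, 15), (3, 10), (5, 3), (7, 2), (13, 1), (19, 1), (31, 1)] (by decide +kernel)

theorem odd_b (hr : r.Prime) (hr2 : r ≠ 2) (hv : s.Valid r j) (h : HasOrd s (r ^ j) X)
    (h' : Nat.card X = 4154781481226426191177580544000000) : False :=
  no_card_odd hr hr2 hv h h' [(2, 41), (3, 13), (5, 6), (7, 2), (11, 1), (13, 1), (17, 1), (19, 1), (23, 1), (31, 1), (47, 1)] (by decide +kernel)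

theorem odd_m (hr : r.Prime) (hr2 : r ≠ 2) (hv : s.Valid r j) (h : HasOrd s (r ^ j) X)
    (h' : Nat.card X = 808017424794512875886459904961710757005754368000000000) : False :=
  no_card_odd hr hr2 hv h h' [(2, 46), (3, 20), (5, 9), (7, 6), (11, 2), (13, 3), (17, 1), (19, 1), (23, 1), (29, 1), (31, 1), (41, 1), (47, 1), (59, 1), (71, 1)] (by decide +kernel)

theorem odd_tits (hr : r.Prime) (hr2 : r ≠ 2) (hv : s.Valid r j) (h : HasOrd s (r ^ j) X)
    (h' : Nat.card X = 17971200) : False :=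
  no_card_odd hr hr2 hv h h' [(2, 11), (3, 3), (5, 2), (13, 1)] (by decide +kernel)

theorem odd_alt7 (hr : r.Prime) (hr2 : r ≠ 2) (hv : s.Valid r j) (h : HasOrd s (r ^ j) X)
    (h' : Nat.card X = 2520) : False :=
  no_card_odd hr hr2 hv h h' [(2, 3), (3, 2), (5, 1), (7, 1)] (by decide +kernel)

theorem odd_alt8 (hr : r.Prime) (hr2 : r ≠ 2) (hv : s.Valid r j) (h : HasOrd s (r ^ j) X)
    (h' : Nat.card X = 20160) : False :=
  no_card_odd hr hr2 hv h h' [(2, 6), (3, 2), (5, 1), (7, 1)] (by decide +kernel)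

theorem odd_alt9 (hr : r.Prime) (hr2 : r ≠ 2) (hv : s.Valid r j) (h : HasOrd s (r ^ j) X)
    (h' : Nat.card X = 181440) : False :=
  no_card_odd hr hr2 hv h h' [(2, 6), (3, 4), (5, 1), (7, 1)] (by decide +kernel)

theorem odd_alt10 (hr : r.Prime) (hr2 : r ≠ 2) (hv : s.Valid r j) (h : HasOrd s (r ^ j) X)
    (h' : Nat.card X = 1814400) : False :=
  no_card_odd hr hr2 hv h h' [(2, 7), (3, 4), (5, 2), (7, 1)] (by decide +kernel)

theorem odd_alt11 (hr : r.Prime) (hr2 : r ≠ 2) (hv : s.Valid r j) (h : HasOrd s (r ^ j) X)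
    (h' : Nat.card X = 19958400) : False :=
  no_card_odd hr hr2 hv h h' [(2, 7), (3, 4), (5, 2), (7, 1), (11, 1)] (by decide +kernel)

end

end Cfsg.Agent.NotCT
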